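import Mathlib.Algebra.Polynomial.Module.AEval
import Mathlib.LinearAlgebra.Matrix.Charpoly.LinearMap
import Mathlib.RingTheory.LocalRing.ResidueField.Ideal
import Mathlib.RingTheory.Localization.FractionRing
import Mathlib.LinearAlgebra.TensorProduct.Tower
import Mathlib.Algebra.Module.Projective
import Mathlib.LinearAlgebra.Basis.VectorSpace
import Mathlib.RingTheory.Finiteness.Basic
import Mathlib.LinearAlgebra.FreeModule.Basic
import Mathlib.Algebra.Module.FinitePresentation

/-!
Maps of finite projective modules: `d` has a pseudo-inverse near a prime iff kernels commute with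
the residue field.
-/

set_option autoImplicit false

universe u v w

open TensorProduct

namespace Groth.Agent.PseudoInv.Basic

variable {R : Type u} [CommRing R]

/-- If `a • D ⊆ A(D)` for an endomorphism `A` of a finite module then a power of `a` factors through `A`. -/
theorem exists_factor_pow {D : Type*} [AddCommGroup D] [Module R D] [Module.Finite R D]
    (A : D →ₗ[R] D) (a : R) (h : ∀ z, ∃ z', A z' = a • z) :
    ∃ (n : ℕ) (g : Polynomial R), ∀ z, A (Polynomial.aeval A g z) = a ^ n • z := by
  let f : Module.End (Polynomial R) (Module.AEval' A) :=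
    Polynomial.C a • (LinearMap.id : Module.AEval' A →ₗ[Polynomial R] Module.AEval' A)
  have hf : LinearMap.range f ≤ Ideal.span {(Polynomial.X : Polynomial R)} • ⊤ := by
    rintro _ ⟨z, rfl⟩
    obtain ⟨z, rfl⟩ := (Module.AEval'.of A).surjective z
    obtain ⟨z', hz'⟩ := h z
    have : f (Module.AEval'.of A z) = (Polynomial.X : Polynomial R) • Module.AEval'.of A z' := by
      rw [Module.AEval'.X_smul_of, hz']
      change (Polynomial.C a : Polynomial R) • Module.AEval'.of A z = _
      rw [Module.AEval.C_smul, map_smul]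
    rw [this]
    exact Submodule.smul_mem_smul (Ideal.mem_span_singleton_self _) trivial
  obtain ⟨q, hq, -, hcoef, hzero⟩ :=
    LinearMap.exists_monic_and_natDegree_eq_and_coeff_mem_pow_and_aeval_eq_zero (Polynomial R) f _ hf
  have h0 : (q.eval (Polynomial.C a)).coeff 0 = a ^ q.natDegree := by
    rw [Polynomial.eval_eq_sum_range, Polynomial.finset_sum_coeff, Finset.sum_range_succ,
      Finset.sum_eq_zero (fun k hk => ?_), hq.coeff_natDegree]
    · rw [one_mul, ← Polynomial.C_pow, zero_add, Polynomial.coeff_C_zero]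
    · have hk' : k < q.natDegree := Finset.mem_range.mp hk
      have h1 := Ideal.pow_le_self (by omega : q.natDegree - k ≠ 0) (hcoef k)
      rw [Ideal.mem_span_singleton, Polynomial.X_dvd_iff] at h1
      simp [Polynomial.mul_coeff_zero, h1]
  refine ⟨q.natDegree, -(Polynomial.divX (q.eval (Polynomial.C a))), fun z => ?_⟩
  have h1 : q.eval (Polynomial.C a) • Module.AEval'.of A z = 0 := by
    have h2 := LinearMap.congr_fun hzero (Module.AEval'.of A z)
    rw [LinearMap.zero_apply, show f = algebraMap (Polynomial R) (Module.End (Polynomial R) (Module.AEval' A)) (Polynomial.C a) from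
      (Algebra.algebraMap_eq_smul_one _).symm, Polynomial.aeval_algebraMap_apply_eq_algebraMap_eval, Module.algebraMap_end_apply] at h2
    exact h2
  rw [← Module.AEval.of_aeval_smul, LinearEquiv.map_eq_zero_iff] at h1
  have h3 : Polynomial.aeval A (q.eval (Polynomial.C a)) =
      A * Polynomial.aeval A (Polynomial.divX (q.eval (Polynomial.C a))) + algebraMap R _ (a ^ q.natDegree) := by
    conv_lhs => rw [← Polynomial.X_mul_divX_add (q.eval (Polynomial.C a))]
    rw [map_add, map_mul, Polynomial.aeval_X, Polynomial.aeval_C, h0]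
  rw [h3] at h1
  have h4 : A (Polynomial.aeval A (Polynomial.divX (q.eval (Polynomial.C a))) z) + a ^ q.natDegree • z = 0 := h1
  rw [map_neg, LinearMap.neg_apply, map_neg, ← add_eq_zero_iff_neg_eq.mp h4]

variable {M : Type v} [AddCommGroup M] [Module R M] {N : Type w} [AddCommGroup N] [Module R N]

theorem one_tmul_eq_zero_iff [Module.Projective R M] (p : Ideal R) [p.IsPrime] (m : M) :
    (1 : p.ResidueField) ⊗ₜ[R] m = 0 ↔ m ∈ (p • ⊤ : Submodule R M) := by
  constructor
  · intro h
    obtain ⟨j, hj⟩ := Module.projective_def'.mp ‹Module.Projective R M›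
    have h1 := LinearMap.congr_fun hj m
    simp only [LinearMap.comp_apply, LinearMap.id_apply, Finsupp.linearCombination_apply, id_eq] at h1
    rw [← h1]
    refine Submodule.sum_mem _ fun i _ => Submodule.smul_mem_smul ?_ trivial
    have h2 := congrArg (TensorProduct.rid R p.ResidueField)
      (congrArg (((Finsupp.lapply i).comp j).lTensor p.ResidueField) h)
    rw [LinearMap.lTensor_tmul, map_zero, map_zero, TensorProduct.rid_tmul, ← Algebra.algebraMap_eq_smul_one] at h2
    exact Ideal.algebraMap_residueField_eq_zero.mp h2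
  · intro h
    refine Submodule.smul_induction_on h (fun a ha x _ => ?_) fun x y hx hy => by
      rw [tmul_add, hx, hy, add_zero]
    rw [tmul_smul, smul_tmul', ← Algebra.algebraMap_eq_smul_one,
      Ideal.algebraMap_residueField_eq_zero.mpr ha, zero_tmul]

theorem exists_smul_eq_tmul (p : Ideal R) [p.IsPrime] (z : p.ResidueField ⊗[R] M) :
    ∃ (t : R) (m : M), t ∉ p ∧ t • z = (1 : p.ResidueField) ⊗ₜ[R] m := by
  induction z using TensorProduct.induction_on with
  | zero => exact ⟨1, 0, fun h => Ideal.IsPrime.ne_top ‹_› (p.eq_top_iff_one.mpr h), by simp⟩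
  | tmul c m =>
    obtain ⟨r, s, hs, hc⟩ := IsFractionRing.div_surjective (A := R ⧸ p) c
    obtain ⟨r, rfl⟩ := Ideal.Quotient.mk_surjective r
    obtain ⟨s, rfl⟩ := Ideal.Quotient.mk_surjective s
    have hs' : s ∉ p := fun h => nonZeroDivisors.ne_zero hs (Ideal.Quotient.eq_zero_iff_mem.mpr h)
    refine ⟨s, r • m, hs', ?_⟩
    rw [Ideal.algebraMap_quotient_residueField_mk, Ideal.algebraMap_quotient_residueField_mk] at hc
    have hne : algebraMap R p.ResidueField s ≠ 0 := fun h => hs' (Ideal.algebraMap_residueField_eq_zero.mp h)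
    rw [tmul_smul, smul_tmul', smul_tmul', Algebra.smul_def, Algebra.smul_def, ← hc, mul_one,
      mul_div_cancel₀ _ hne]
  | add x y hx hy =>
    obtain ⟨t, m, ht, hm⟩ := hx
    obtain ⟨t', m', ht', hm'⟩ := hy
    refine ⟨t * t', t' • m + t • m', fun h => (Ideal.IsPrime.mem_or_mem inferInstance h).elim ht ht', ?_⟩
    rw [smul_add, tmul_add, tmul_smul, tmul_smul, ← hm, ← hm', smul_smul, smul_smul, mul_comm t' t]

/-- From a pseudo-inverse away from `p`, surjectivity on kernels at `p`. -/
theorem ker_le_range_of_pinv [Module.Projective R M] [Module.Projective R N] (d : M →ₗ[R] N)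
    (p : Ideal R) [p.IsPrime] (s : N →ₗ[R] M) (a : R) (ha : a ∉ p) (h : ∀ m, d (s (d m)) = a • d m) :
    LinearMap.ker (d.baseChange p.ResidueField) ≤
      LinearMap.range ((LinearMap.ker d).subtype.baseChange p.ResidueField) := by
  intro z hz
  obtain ⟨t, m, ht, hm⟩ := exists_smul_eq_tmul p z
  have hdm : d m ∈ (p • ⊤ : Submodule R N) := by
    rw [← one_tmul_eq_zero_iff, ← LinearMap.baseChange_tmul, ← hm, LinearMap.map_smul_of_tower,
      LinearMap.mem_ker.mp hz, smul_zero]
  have hs : (1 : p.ResidueField) ⊗ₜ[R] s (d m) = 0 := by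
    rw [one_tmul_eq_zero_iff]
    have := Submodule.mem_map_of_mem (f := s) hdm
    rw [Submodule.map_smul''] at this
    exact Submodule.smul_mono le_rfl le_top this
  have hk : a • m - s (d m) ∈ LinearMap.ker d := by simp [h]
  have hne : algebraMap R p.ResidueField (a * t) ≠ 0 := fun h0 =>
    (Ideal.IsPrime.mem_or_mem inferInstance (Ideal.algebraMap_residueField_eq_zero.mp h0)).elim ha ht
  refine ⟨(algebraMap R p.ResidueField (a * t))⁻¹ • ((1 : p.ResidueField) ⊗ₜ[R] ⟨_, hk⟩), ?_⟩
  rw [map_smul, LinearMap.baseChange_tmul, Submodule.coe_subtype, tmul_sub, hs, sub_zero, tmul_smul, ← hm,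
    smul_smul, ← IsScalarTower.algebraMap_smul p.ResidueField (a * t) z, inv_smul_smul₀ hne]

/-- Surjectivity on kernels at `p` gives a pseudo-inverse away from `p`. -/
theorem exists_pinv [Module.Finite R M] [Module.Projective R M] [Module.Finite R N] [Module.Projective R N]
    (d : M →ₗ[R] N) (p : Ideal R) [p.IsPrime]
    (h : LinearMap.ker (d.baseChange p.ResidueField) ≤
      LinearMap.range ((LinearMap.ker d).subtype.baseChange p.ResidueField)) :
    ∃ (s : N →ₗ[R] M) (a : R), a ∉ p ∧ ∀ m, d (s (d m)) = a • d m := by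
  classical
  let dκ := d.baseChange p.ResidueField
  -- pseudo-inverse over the residue field
  have : Module.Free p.ResidueField (LinearMap.range dκ) := @Module.Free.of_divisionRing p.ResidueField (LinearMap.range dκ) _ (inferInstanceAs (AddCommGroup (LinearMap.range dκ))) _
  have : Module.Projective p.ResidueField (LinearMap.range dκ) := Module.Projective.of_free
  obtain ⟨τ, hτ⟩ := dκ.rangeRestrict.exists_rightInverse_of_surjective dκ.range_rangeRestrict
  obtain ⟨π, hπ⟩ := @LinearMap.exists_leftInverse_of_injective p.ResidueField (LinearMap.range dκ) (p.ResidueField ⊗[R] N) _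
    (inferInstanceAs (AddCommGroup (LinearMap.range dκ))) _ _ _ (LinearMap.range dκ).subtype (Submodule.ker_subtype _)
  let σ := τ.comp π
  have hσ : ∀ z, dκ (σ (dκ z)) = dκ z := by
    intro z
    have h1 : π (dκ z) = dκ.rangeRestrict z := LinearMap.congr_fun hπ (dκ.rangeRestrict z)
    have h2 := congrArg Subtype.val (LinearMap.congr_fun hτ (dκ.rangeRestrict z))
    simp only [σ, LinearMap.comp_apply, h1]
    exact h2
  obtain ⟨n, π₀, hπ₀⟩ := Module.Finite.exists_fin' R N
  obtain ⟨j, hj⟩ := Module.projective_lifting_property π₀ LinearMap.id hπ₀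
  choose t m ht htm using fun i : Fin n => exists_smul_eq_tmul p (σ ((1 : p.ResidueField) ⊗ₜ[R] π₀ (Pi.single i 1)))
  let T := ∏ i, t i
  have hT : T ∉ p := fun hmem => by
    obtain ⟨i, -, hi⟩ := (Ideal.IsPrime.prod_mem_iff (p := p)).mp hmem
    exact ht i hi
  let m' : Fin n → M := fun i => (∏ k ∈ Finset.univ.erase i, t k) • m i
  let s : N →ₗ[R] M := (Fintype.linearCombination R m').comp j
  have hs : ∀ x, (1 : p.ResidueField) ⊗ₜ[R] s x = T • σ ((1 : p.ResidueField) ⊗ₜ[R] x) := by
    intro x
    have hx : π₀ (j x) = x := LinearMap.congr_fun hj x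
    conv_rhs => rw [← hx, pi_eq_sum_univ' (j x), map_sum, tmul_sum, map_sum, Finset.smul_sum]
    simp only [s, LinearMap.comp_apply, Fintype.linearCombination_apply, tmul_sum]
    refine Finset.sum_congr rfl fun i _ => ?_
    conv_rhs => rw [map_smul, tmul_smul, LinearMap.map_smul_of_tower, smul_comm]
    congr 1
    simp only [m', tmul_smul, ← htm, smul_smul, T]
    rw [mul_assoc, Finset.prod_erase_mul _ _ (Finset.mem_univ i)]
  -- approximate kernel elements
  have key : ∀ y, d y ∈ (p • ⊤ : Submodule R N) → ∃ t', t' ∉ p ∧ t' • d y ∈ p • LinearMap.range d := by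
    intro y hy
    obtain ⟨w, hw⟩ := h (show (1 : p.ResidueField) ⊗ₜ[R] y ∈ LinearMap.ker dκ by
      rw [LinearMap.mem_ker, LinearMap.baseChange_tmul, (one_tmul_eq_zero_iff p _).mpr hy])
    obtain ⟨t', k, ht', hk⟩ := exists_smul_eq_tmul p w
    refine ⟨t', ht', ?_⟩
    have h1 : t' • y - (k : M) ∈ (p • ⊤ : Submodule R M) := by
      rw [← one_tmul_eq_zero_iff, tmul_sub, tmul_smul, ← hw, ← LinearMap.map_smul_of_tower, hk,
        LinearMap.baseChange_tmul, Submodule.coe_subtype, sub_self]
    have h2 := Submodule.mem_map_of_mem (f := d) h1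
    rw [Submodule.map_smul'', Submodule.map_top, map_sub, map_smul, LinearMap.mem_ker.mp k.2, sub_zero] at h2
    exact h2
  let D := LinearMap.range d
  let A : D →ₗ[R] D := d.rangeRestrict.comp (s.comp D.subtype)
  have : Module.Finite R D := Module.Finite.range d
  -- modulo `A`, `p` spans `D` up to units
  have hD : ∀ z : D, ∃ t', t' ∉ p ∧ t' • z ∈ (p • ⊤ : Submodule R D) ⊔ LinearMap.range A := by
    rintro ⟨_, x, rfl⟩
    obtain ⟨t', ht', hmem⟩ := key (T • x - s (d x)) (by
      rw [← one_tmul_eq_zero_iff, ← LinearMap.baseChange_tmul, tmul_sub, map_sub, hs, tmul_smul,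
        ← LinearMap.baseChange_tmul, LinearMap.map_smul_of_tower, LinearMap.map_smul_of_tower, hσ, sub_self])
    refine ⟨t' * T, fun hh => (Ideal.IsPrime.mem_or_mem inferInstance hh).elim ht' hT, ?_⟩
    have hmem' : (⟨t' • d (T • x - s (d x)), D.smul_mem _ ⟨_, rfl⟩⟩ : D) ∈ (p • ⊤ : Submodule R D) :=
      (Submodule.mem_smul_top_iff p D _).mpr hmem
    refine Submodule.mem_sup.mpr ⟨_, hmem', A (t' • ⟨d x, ⟨x, rfl⟩⟩), ⟨_, rfl⟩, ?_⟩
    ext
    simp [A, map_sub, smul_sub, smul_smul]
  obtain ⟨k, c, hc⟩ := Submodule.fg_iff_exists_fin_generating_family.mp (Module.Finite.fg_top (R := R) (M := D))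
  choose u hu hu' using fun i : Fin k => hD (c i)
  let U := ∏ i, u i
  have hU : U ∉ p := fun hmem => by
    obtain ⟨i, -, hi⟩ := (Ideal.IsPrime.prod_mem_iff (p := p)).mp hmem
    exact hu i hi
  let Q := D ⧸ LinearMap.range A
  have hrange : LinearMap.range (U • (LinearMap.id : Q →ₗ[R] Q)) ≤ p • ⊤ := by
    rintro _ ⟨q, rfl⟩
    obtain ⟨q, rfl⟩ := Submodule.mkQ_surjective _ q
    suffices hall : ⊤ ≤ (p • (⊤ : Submodule R Q)).comap (U • (LinearMap.range A).mkQ) from hall (trivial : q ∈ ⊤)
    rw [← hc, Submodule.span_le]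
    rintro _ ⟨i, rfl⟩
    obtain ⟨y, hy, z, hz, hyz⟩ := Submodule.mem_sup.mp (hu' i)
    change U • (LinearMap.range A).mkQ (c i) ∈ p • (⊤ : Submodule R Q)
    rw [show U = (∏ l ∈ Finset.univ.erase i, u l) * u i from (Finset.prod_erase_mul _ _ (Finset.mem_univ i)).symm,
      mul_smul, ← map_smul, ← hyz, map_add,
      show (LinearMap.range A).mkQ z = 0 from (Submodule.Quotient.mk_eq_zero _).mpr hz, add_zero]
    refine Submodule.smul_mem _ _ ?_
    have := Submodule.mem_map_of_mem (f := (LinearMap.range A).mkQ) hy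
    rwa [Submodule.map_smul'', Submodule.map_top, Submodule.range_mkQ] at this
  obtain ⟨q, hqm, -, hqc, hq0⟩ :=
    LinearMap.exists_monic_and_natDegree_eq_and_coeff_mem_pow_and_aeval_eq_zero R _ p hrange
  have ha : q.eval U ∉ p := by
    intro hmem
    rw [Polynomial.eval_eq_sum_range, Finset.sum_range_succ, hqm.coeff_natDegree, one_mul,
      Ideal.add_mem_iff_right] at hmem
    · exact hU (Ideal.IsPrime.mem_of_pow_mem inferInstance _ hmem)
    · refine p.sum_mem fun i hi => Ideal.mul_mem_right _ _ ?_
      exact Ideal.pow_le_self (by have := Finset.mem_range.mp hi; omega) (hqc i)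
  obtain ⟨n', g, hg⟩ := exists_factor_pow A (q.eval U) (fun z => by
    have h1 := LinearMap.congr_fun hq0 ((LinearMap.range A).mkQ z)
    rw [show (U • (LinearMap.id : Q →ₗ[R] Q)) = algebraMap R (Module.End R Q) U from
      (Algebra.algebraMap_eq_smul_one _).symm, Polynomial.aeval_algebraMap_apply_eq_algebraMap_eval,
      Module.algebraMap_end_apply, LinearMap.zero_apply, ← map_smul] at h1
    exact LinearMap.mem_range.mp ((Submodule.Quotient.mk_eq_zero _).mp h1))
  refine ⟨(Polynomial.aeval (s.comp d) g).comp s, (q.eval U) ^ n',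
    fun hh => ha (Ideal.IsPrime.mem_of_pow_mem inferInstance _ hh), fun x => ?_⟩
  have hcommA : ∀ (g : Polynomial R) (y : M), d (Polynomial.aeval (s.comp d) g y) =
      (Polynomial.aeval A g ⟨d y, ⟨y, rfl⟩⟩ : D) := by
    intro g
    induction g using Polynomial.induction_on' with
    | add a b ha hb => intro y; simp [ha y, hb y]
    | monomial l r =>
      induction l generalizing r with
      | zero => intro y; simp [Polynomial.aeval_monomial]
      | succ l ih =>
        intro y
        have h1 := ih r (s (d y))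
        simp only [Polynomial.aeval_monomial, pow_succ, Module.End.mul_apply, Module.algebraMap_end_apply] at h1 ⊢
        exact h1
  have h2 := hcommA g (s (d x))
  rw [LinearMap.comp_apply, h2]
  have h3 : (⟨d (s (d x)), ⟨_, rfl⟩⟩ : D) = A ⟨d x, ⟨x, rfl⟩⟩ := rfl
  rw [h3]
  have hcomm : ∀ z, Polynomial.aeval A g (A z) = A (Polynomial.aeval A g z) := by
    intro z
    have h4 := congrArg (Polynomial.aeval A) (mul_comm g Polynomial.X)
    rw [map_mul, map_mul, Polynomial.aeval_X] at h4
    exact LinearMap.congr_fun h4 z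
  rw [hcomm, hg]
  rfl

end Groth.Agent.PseudoInv.Basic
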